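import Cfsg.Agent.Lib.LyRep.Letters

/-!
Kernel checks of relations.
-/

set_option autoImplicit false
set_option linter.style.longLine false
set_option Elab.async false

namespace CfsgLib.LyRep

theorem relChk15 : isOneW [3, 5, 2, 1, 5, 0, 5, 1, 4, 0, 4, 3, 4, 2, 5, 1, 5, 0, 4, 1, 4, 0] = true := by decide +kernel

theorem relChk16 : isOneW [2, 5, 3, 1, 5, 0, 5, 1, 4, 0, 4, 2, 4, 3, 5, 1, 5, 0, 4, 1, 4, 0] = true := by decide +kernel

theorem relChk17 : isOneW [5, 3, 5, 2, 4, 3, 4, 2, 5, 1, 5, 0, 4, 1, 4, 0, 5, 1, 5, 0, 4, 1, 4, 0] = true := by decide +kernel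

theorem relChk18 : isOneW [5, 2, 5, 3, 4, 2, 4, 3, 1, 5, 0, 5, 1, 4, 0, 4, 1, 5, 0, 5, 1, 4, 0, 4] = true := by decide +kernel

theorem relChk19 : isOneW [1, 5, 0, 3, 5, 2, 1, 4, 0, 3, 4, 2, 5, 1, 5, 0, 4, 1, 4, 0] = true := by decide +kernel

theorem relChk20 : isOneW [1, 5, 0, 2, 5, 3, 1, 4, 0, 2, 4, 3] = true := by decide +kernel

end CfsgLib.LyRep
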