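import Cfsg.Agent.Lib.LyRep.RelChk8

/-!
Kernel checks of relations.
-/

set_option autoImplicit false
set_option linter.style.longLine false
set_option Elab.async false

namespace CfsgLib.LyRep

theorem relChk86 : isOneW [10, 2, 6, 10, 2, 2, 1, 3, 1, 2, 2, 5, 0, 4, 1, 5, 6, 5, 2, 2, 1, 4, 2, 11, 7, 3, 11, 5, 1, 4, 2, 5, 7, 4, 1, 4, 0, 4, 3, 1, 3, 1, 2] = true := by decide +kernel

end CfsgLib.LyRep
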