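import Cfsg.Agent.Lib.LyRep.RelChk2

/-!
Kernel checks of relations.
-/

set_option autoImplicit false
set_option linter.style.longLine false
set_option Elab.async false

namespace CfsgLib.LyRep

theorem relChk33 : isOneW [7, 5, 7, 2, 1, 3, 5, 7, 1, 5, 0, 5, 1, 4, 0, 2, 2, 2, 4, 3, 3, 3, 1, 5, 0, 4, 1, 4, 0, 6, 4, 2, 0, 3, 6, 4, 6, 2, 5, 3, 3, 4, 3] = true := by decide +kernel

theorem relChk34 : isOneW [7, 5, 7, 2, 1, 3, 5, 7, 1, 5, 0, 5, 1, 4, 0, 2, 2, 5, 1, 5, 0, 4, 1, 4, 0, 3, 3, 1, 5, 0, 4, 1, 4, 0, 6, 4, 2, 0, 3, 6, 4, 6, 2, 4, 3, 5, 3, 4, 2, 5] = true := by decide +kernel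

end CfsgLib.LyRep
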