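import Cfsg.Agent.Lib.LyRep.RelChk0
import Cfsg.Agent.Lib.LyRep.RelChk1
import Cfsg.Agent.Lib.LyRep.RelChk2
import Cfsg.Agent.Lib.LyRep.RelChk3
import Cfsg.Agent.Lib.LyRep.RelChk4
import Cfsg.Agent.Lib.LyRep.RelChk5
import Cfsg.Agent.Lib.LyRep.RelChk6
import Cfsg.Agent.Lib.LyRep.RelChk7
import Cfsg.Agent.Lib.LyRep.RelChk8
import Cfsg.Agent.Lib.LyRep.RelChk9
import Cfsg.Agent.Lib.LyRep.RelChk10
import Cfsg.Agent.Lib.LyPres.Group
import Cfsg.Agent.Lib.CosetEnum.Presented

/-!
A representation of the presented Lyons group by matrices of size 111 over the field with 5 elements.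
-/

set_option autoImplicit false
set_option linter.style.longLine false
set_option maxHeartbeats 4000000
set_option maxRecDepth 8000
set_option linter.unusedSimpArgs false

namespace CfsgLib.LyRep

open CfsgLib.CosetEnum

/-- the images of the generators -/
noncomputable def fGen : Cfsg.Spor.Ly.Gen → U111
  | .a => prodW um [0]
  | .b => prodW um [2]
  | .c => prodW um [4]
  | .d => prodW um [6]
  | .z => prodW um [10]
  | .e => prodW um [3, 3, 1, 5, 0, 4, 1, 4, 0, 6, 4, 2, 0, 3, 6, 4, 6]
  | .a1 => prodW um [0]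
  | .a2 => prodW um [2, 0, 3]
  | .a3 => prodW um [2, 2, 0, 3, 3]
  | .a4 => prodW um [3, 3, 0, 2, 2]
  | .c1 => prodW um [4]
  | .c2 => prodW um [1, 4, 0]
  | .c3 => prodW um [3, 4, 2]
  | .c4 => prodW um [2, 4, 3]
  | .c5 => prodW um [5, 1, 5, 0, 4, 1, 4, 0]
  | .u => prodW um [0, 0]
  | .x23 => prodW um [6]
  | .x24 => prodW um [7]
  | .x25 => prodW um [2, 2, 1, 3, 1, 2, 2, 5, 0, 4, 1, 5, 6, 5, 2, 2, 1, 4, 2]
  | .x29 => prodW um [0, 2, 1, 2, 2, 1, 2, 2, 5, 0, 4, 2, 4, 3, 6, 4, 3, 3, 6, 4, 2, 4]
  | .x47 => prodW um [5, 7, 1, 5, 1, 2, 5, 7]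
  | .x96 => prodW um [2, 6]
  | .x129 => prodW um [7, 3]
  | .x162 => prodW um [1, 3, 1, 2, 5, 3, 0, 5, 2, 0]
  | .x163 => prodW um [3, 3, 0, 4, 1, 2, 4, 2]
  | .x164 => prodW um [1, 3, 1, 4, 0, 2, 0]
  | .x165 => prodW um [3, 1, 2, 4, 3, 0, 2]
  | .x166 => prodW um [2, 2, 1, 3, 4, 2, 0, 4, 3, 3, 5]
  | .x167 => prodW um [1, 1, 1]
  | .x168 => prodW um [2, 1, 3, 1, 1]
  | .x169 => prodW um [0, 2, 2, 0, 3, 3, 1]
  | .x364 => prodW um [1, 6, 3, 5, 1, 2, 5, 7, 2, 5, 3, 1, 5, 0, 3, 0, 2, 0, 3]
  | .x365 => prodW um [0, 3, 3, 1, 4, 2, 5, 2, 1, 5, 5, 6, 4, 0, 4, 1, 4, 3, 7]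
  | .x366 => prodW um [2, 0, 3, 1, 3, 3, 1, 3, 4, 2, 2, 4, 2, 6, 4, 3, 3, 6, 4, 2, 4]
  | .x367 => prodW um [5, 3, 5, 7, 2, 2, 5, 7, 3, 5, 3, 3, 5, 2, 0, 2, 2, 0, 2, 1, 3]
  | .x368 => prodW um [1, 5, 7, 0, 5, 3, 0, 5, 7, 1, 5, 0, 4, 3, 3, 5, 3, 1, 3, 3]
  | .x369 => prodW um [1, 5, 7, 2, 1, 3, 5, 7, 2, 1, 3, 5, 3, 0, 3, 3, 0, 3]
  | .x370 => prodW um [7, 0, 4, 2, 4, 1, 5, 7, 0, 3, 1, 4, 1, 3, 3, 1, 2, 1]
  | .x371 => prodW um [5, 1, 4, 2, 5, 7, 4, 1, 4, 0, 4, 3, 1, 3, 1, 2]

theorem relator1 : FreeGroup.lift fGen (Cfsg.Spor.Ly.extra[0]'(by decide)) = 1 := by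
  simp only [Cfsg.Spor.Ly.extra, List.getElem_cons_succ, List.getElem_cons_zero, map_mul, map_pow, map_inv, FreeGroup.lift_apply_of, fGen]
  have h := one_of_isOneW relChk1
  simp only [prodW_cons, prodW_nil, mul_inv_rev, inv_inv, pow_succ, pow_zero, one_mul, mul_one, mul_assoc, inv_mul_cancel_left, mul_inv_cancel_left, inv_mul_cancel, mul_inv_cancel, inv_one, um_1, um_3, um_5, um_7, um_11] at h ⊢
  exact h

theorem relator2 : FreeGroup.lift fGen (Cfsg.Spor.Ly.extra[1]'(by decide)) = 1 := by
  simp only [Cfsg.Spor.Ly.extra, List.getElem_cons_succ, List.getElem_cons_zero, map_mul, map_pow, map_inv, FreeGroup.lift_apply_of, fGen]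
  have h := one_of_isOneW relChk2
  simp only [prodW_cons, prodW_nil, mul_inv_rev, inv_inv, pow_succ, pow_zero, one_mul, mul_one, mul_assoc, inv_mul_cancel_left, mul_inv_cancel_left, inv_mul_cancel, mul_inv_cancel, inv_one, um_1, um_3, um_5, um_7, um_11] at h ⊢
  exact h

theorem relator3 : FreeGroup.lift fGen (Cfsg.Spor.Ly.extra[2]'(by decide)) = 1 := by
  simp only [Cfsg.Spor.Ly.extra, List.getElem_cons_succ, List.getElem_cons_zero, map_mul, map_pow, map_inv, FreeGroup.lift_apply_of, fGen]
  have h := one_of_isOneW relChk3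
  simp only [prodW_cons, prodW_nil, mul_inv_rev, inv_inv, pow_succ, pow_zero, one_mul, mul_one, mul_assoc, inv_mul_cancel_left, mul_inv_cancel_left, inv_mul_cancel, mul_inv_cancel, inv_one, um_1, um_3, um_5, um_7, um_11] at h ⊢
  exact h

theorem relator4 : FreeGroup.lift fGen (Cfsg.Spor.Ly.extra[3]'(by decide)) = 1 := by
  simp only [Cfsg.Spor.Ly.extra, List.getElem_cons_succ, List.getElem_cons_zero, map_mul, map_pow, map_inv, FreeGroup.lift_apply_of, fGen]
  have h := one_of_isOneW relChk4
  simp only [prodW_cons, prodW_nil, mul_inv_rev, inv_inv, pow_succ, pow_zero, one_mul, mul_one, mul_assoc, inv_mul_cancel_left, mul_inv_cancel_left, inv_mul_cancel, mul_inv_cancel, inv_one, um_1, um_3, um_5, um_7, um_11] at h ⊢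
  exact h

theorem relator5 : FreeGroup.lift fGen (Cfsg.Spor.Ly.extra[4]'(by decide)) = 1 := by
  simp only [Cfsg.Spor.Ly.extra, List.getElem_cons_succ, List.getElem_cons_zero, map_mul, map_pow, map_inv, FreeGroup.lift_apply_of, fGen]
  have h := one_of_isOneW relChk5
  simp only [prodW_cons, prodW_nil, mul_inv_rev, inv_inv, pow_succ, pow_zero, one_mul, mul_one, mul_assoc, inv_mul_cancel_left, mul_inv_cancel_left, inv_mul_cancel, mul_inv_cancel, inv_one, um_1, um_3, um_5, um_7, um_11] at h ⊢
  exact h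

theorem relator6 : FreeGroup.lift fGen (Cfsg.Spor.Ly.extra[5]'(by decide)) = 1 := by
  simp only [Cfsg.Spor.Ly.extra, List.getElem_cons_succ, List.getElem_cons_zero, map_mul, map_pow, map_inv, FreeGroup.lift_apply_of, fGen]
  simp only [prodW_cons, prodW_nil, mul_inv_rev, inv_inv, pow_succ, pow_zero, one_mul, mul_one, mul_assoc, inv_mul_cancel_left, mul_inv_cancel_left, inv_mul_cancel, mul_inv_cancel, inv_one, um_1, um_3, um_5, um_7, um_11]

theorem relator7 : FreeGroup.lift fGen (Cfsg.Spor.Ly.extra[6]'(by decide)) = 1 := by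
  simp only [Cfsg.Spor.Ly.extra, List.getElem_cons_succ, List.getElem_cons_zero, map_mul, map_pow, map_inv, FreeGroup.lift_apply_of, fGen]
  simp only [prodW_cons, prodW_nil, mul_inv_rev, inv_inv, pow_succ, pow_zero, one_mul, mul_one, mul_assoc, inv_mul_cancel_left, mul_inv_cancel_left, inv_mul_cancel, mul_inv_cancel, inv_one, um_1, um_3, um_5, um_7, um_11]

theorem relator8 : FreeGroup.lift fGen (Cfsg.Spor.Ly.extra[7]'(by decide)) = 1 := by
  simp only [Cfsg.Spor.Ly.extra, List.getElem_cons_succ, List.getElem_cons_zero, map_mul, map_pow, map_inv, FreeGroup.lift_apply_of, fGen]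
  simp only [prodW_cons, prodW_nil, mul_inv_rev, inv_inv, pow_succ, pow_zero, one_mul, mul_one, mul_assoc, inv_mul_cancel_left, mul_inv_cancel_left, inv_mul_cancel, mul_inv_cancel, inv_one, um_1, um_3, um_5, um_7, um_11]

theorem relator9 : FreeGroup.lift fGen (Cfsg.Spor.Ly.extra[8]'(by decide)) = 1 := by
  simp only [Cfsg.Spor.Ly.extra, List.getElem_cons_succ, List.getElem_cons_zero, map_mul, map_pow, map_inv, FreeGroup.lift_apply_of, fGen]
  simp only [prodW_cons, prodW_nil, mul_inv_rev, inv_inv, pow_succ, pow_zero, one_mul, mul_one, mul_assoc, inv_mul_cancel_left, mul_inv_cancel_left, inv_mul_cancel, mul_inv_cancel, inv_one, um_1, um_3, um_5, um_7, um_11]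

theorem relator10 : FreeGroup.lift fGen (Cfsg.Spor.Ly.extra[9]'(by decide)) = 1 := by
  simp only [Cfsg.Spor.Ly.extra, List.getElem_cons_succ, List.getElem_cons_zero, map_mul, map_pow, map_inv, FreeGroup.lift_apply_of, fGen]
  simp only [prodW_cons, prodW_nil, mul_inv_rev, inv_inv, pow_succ, pow_zero, one_mul, mul_one, mul_assoc, inv_mul_cancel_left, mul_inv_cancel_left, inv_mul_cancel, mul_inv_cancel, inv_one, um_1, um_3, um_5, um_7, um_11]

theorem relator11 : FreeGroup.lift fGen (Cfsg.Spor.Ly.extra[10]'(by decide)) = 1 := by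
  simp only [Cfsg.Spor.Ly.extra, List.getElem_cons_succ, List.getElem_cons_zero, map_mul, map_pow, map_inv, FreeGroup.lift_apply_of, fGen]
  have h := one_of_isOneW relChk11
  simp only [prodW_cons, prodW_nil, mul_inv_rev, inv_inv, pow_succ, pow_zero, one_mul, mul_one, mul_assoc, inv_mul_cancel_left, mul_inv_cancel_left, inv_mul_cancel, mul_inv_cancel, inv_one, um_1, um_3, um_5, um_7, um_11] at h ⊢
  exact h

theorem relator12 : FreeGroup.lift fGen (Cfsg.Spor.Ly.extra[11]'(by decide)) = 1 := by
  simp only [Cfsg.Spor.Ly.extra, List.getElem_cons_succ, List.getElem_cons_zero, map_mul, map_pow, map_inv, FreeGroup.lift_apply_of, fGen]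
  have h := one_of_isOneW relChk12
  simp only [prodW_cons, prodW_nil, mul_inv_rev, inv_inv, pow_succ, pow_zero, one_mul, mul_one, mul_assoc, inv_mul_cancel_left, mul_inv_cancel_left, inv_mul_cancel, mul_inv_cancel, inv_one, um_1, um_3, um_5, um_7, um_11] at h ⊢
  exact h

theorem relator13 : FreeGroup.lift fGen (Cfsg.Spor.Ly.extra[12]'(by decide)) = 1 := by
  simp only [Cfsg.Spor.Ly.extra, List.getElem_cons_succ, List.getElem_cons_zero, map_mul, map_pow, map_inv, FreeGroup.lift_apply_of, fGen]
  have h := one_of_isOneW relChk13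
  simp only [prodW_cons, prodW_nil, mul_inv_rev, inv_inv, pow_succ, pow_zero, one_mul, mul_one, mul_assoc, inv_mul_cancel_left, mul_inv_cancel_left, inv_mul_cancel, mul_inv_cancel, inv_one, um_1, um_3, um_5, um_7, um_11] at h ⊢
  exact h

theorem relator14 : FreeGroup.lift fGen (Cfsg.Spor.Ly.extra[13]'(by decide)) = 1 := by
  simp only [Cfsg.Spor.Ly.extra, List.getElem_cons_succ, List.getElem_cons_zero, map_mul, map_pow, map_inv, FreeGroup.lift_apply_of, fGen]
  have h := one_of_isOneW relChk14
  simp only [prodW_cons, prodW_nil, mul_inv_rev, inv_inv, pow_succ, pow_zero, one_mul, mul_one, mul_assoc, inv_mul_cancel_left, mul_inv_cancel_left, inv_mul_cancel, mul_inv_cancel, inv_one, um_1, um_3, um_5, um_7, um_11] at h ⊢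
  exact h

theorem relator15 : FreeGroup.lift fGen (Cfsg.Spor.Ly.extra[14]'(by decide)) = 1 := by
  simp only [Cfsg.Spor.Ly.extra, List.getElem_cons_succ, List.getElem_cons_zero, map_mul, map_pow, map_inv, FreeGroup.lift_apply_of, fGen]
  have h := one_of_isOneW relChk15
  simp only [prodW_cons, prodW_nil, mul_inv_rev, inv_inv, pow_succ, pow_zero, one_mul, mul_one, mul_assoc, inv_mul_cancel_left, mul_inv_cancel_left, inv_mul_cancel, mul_inv_cancel, inv_one, um_1, um_3, um_5, um_7, um_11] at h ⊢
  exact h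

theorem relator16 : FreeGroup.lift fGen (Cfsg.Spor.Ly.extra[15]'(by decide)) = 1 := by
  simp only [Cfsg.Spor.Ly.extra, List.getElem_cons_succ, List.getElem_cons_zero, map_mul, map_pow, map_inv, FreeGroup.lift_apply_of, fGen]
  have h := one_of_isOneW relChk16
  simp only [prodW_cons, prodW_nil, mul_inv_rev, inv_inv, pow_succ, pow_zero, one_mul, mul_one, mul_assoc, inv_mul_cancel_left, mul_inv_cancel_left, inv_mul_cancel, mul_inv_cancel, inv_one, um_1, um_3, um_5, um_7, um_11] at h ⊢
  exact h

theorem relator17 : FreeGroup.lift fGen (Cfsg.Spor.Ly.extra[16]'(by decide)) = 1 := by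
  simp only [Cfsg.Spor.Ly.extra, List.getElem_cons_succ, List.getElem_cons_zero, map_mul, map_pow, map_inv, FreeGroup.lift_apply_of, fGen]
  have h := one_of_isOneW relChk17
  simp only [prodW_cons, prodW_nil, mul_inv_rev, inv_inv, pow_succ, pow_zero, one_mul, mul_one, mul_assoc, inv_mul_cancel_left, mul_inv_cancel_left, inv_mul_cancel, mul_inv_cancel, inv_one, um_1, um_3, um_5, um_7, um_11] at h ⊢
  exact h

theorem relator18 : FreeGroup.lift fGen (Cfsg.Spor.Ly.extra[17]'(by decide)) = 1 := by
  simp only [Cfsg.Spor.Ly.extra, List.getElem_cons_succ, List.getElem_cons_zero, map_mul, map_pow, map_inv, FreeGroup.lift_apply_of, fGen]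
  have h := one_of_isOneW relChk18
  simp only [prodW_cons, prodW_nil, mul_inv_rev, inv_inv, pow_succ, pow_zero, one_mul, mul_one, mul_assoc, inv_mul_cancel_left, mul_inv_cancel_left, inv_mul_cancel, mul_inv_cancel, inv_one, um_1, um_3, um_5, um_7, um_11] at h ⊢
  exact h

theorem relator19 : FreeGroup.lift fGen (Cfsg.Spor.Ly.extra[18]'(by decide)) = 1 := by
  simp only [Cfsg.Spor.Ly.extra, List.getElem_cons_succ, List.getElem_cons_zero, map_mul, map_pow, map_inv, FreeGroup.lift_apply_of, fGen]
  have h := one_of_isOneW relChk19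
  simp only [prodW_cons, prodW_nil, mul_inv_rev, inv_inv, pow_succ, pow_zero, one_mul, mul_one, mul_assoc, inv_mul_cancel_left, mul_inv_cancel_left, inv_mul_cancel, mul_inv_cancel, inv_one, um_1, um_3, um_5, um_7, um_11] at h ⊢
  exact h

theorem relator20 : FreeGroup.lift fGen (Cfsg.Spor.Ly.extra[19]'(by decide)) = 1 := by
  simp only [Cfsg.Spor.Ly.extra, List.getElem_cons_succ, List.getElem_cons_zero, map_mul, map_pow, map_inv, FreeGroup.lift_apply_of, fGen]
  have h := one_of_isOneW relChk20
  simp only [prodW_cons, prodW_nil, mul_inv_rev, inv_inv, pow_succ, pow_zero, one_mul, mul_one, mul_assoc, inv_mul_cancel_left, mul_inv_cancel_left, inv_mul_cancel, mul_inv_cancel, inv_one, um_1, um_3, um_5, um_7, um_11] at h ⊢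
  exact h

theorem relator21 : FreeGroup.lift fGen (Cfsg.Spor.Ly.extra[20]'(by decide)) = 1 := by
  simp only [Cfsg.Spor.Ly.extra, List.getElem_cons_succ, List.getElem_cons_zero, map_mul, map_pow, map_inv, FreeGroup.lift_apply_of, fGen]
  have h := one_of_isOneW relChk21
  simp only [prodW_cons, prodW_nil, mul_inv_rev, inv_inv, pow_succ, pow_zero, one_mul, mul_one, mul_assoc, inv_mul_cancel_left, mul_inv_cancel_left, inv_mul_cancel, mul_inv_cancel, inv_one, um_1, um_3, um_5, um_7, um_11] at h ⊢
  exact h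

theorem relator22 : FreeGroup.lift fGen (Cfsg.Spor.Ly.extra[21]'(by decide)) = 1 := by
  simp only [Cfsg.Spor.Ly.extra, List.getElem_cons_succ, List.getElem_cons_zero, map_mul, map_pow, map_inv, FreeGroup.lift_apply_of, fGen]
  have h := one_of_isOneW relChk22
  simp only [prodW_cons, prodW_nil, mul_inv_rev, inv_inv, pow_succ, pow_zero, one_mul, mul_one, mul_assoc, inv_mul_cancel_left, mul_inv_cancel_left, inv_mul_cancel, mul_inv_cancel, inv_one, um_1, um_3, um_5, um_7, um_11] at h ⊢
  exact h

theorem relator23 : FreeGroup.lift fGen (Cfsg.Spor.Ly.extra[22]'(by decide)) = 1 := by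
  simp only [Cfsg.Spor.Ly.extra, List.getElem_cons_succ, List.getElem_cons_zero, map_mul, map_pow, map_inv, FreeGroup.lift_apply_of, fGen]
  have h := one_of_isOneW relChk23
  simp only [prodW_cons, prodW_nil, mul_inv_rev, inv_inv, pow_succ, pow_zero, one_mul, mul_one, mul_assoc, inv_mul_cancel_left, mul_inv_cancel_left, inv_mul_cancel, mul_inv_cancel, inv_one, um_1, um_3, um_5, um_7, um_11] at h ⊢
  exact h

theorem relator24 : FreeGroup.lift fGen (Cfsg.Spor.Ly.extra[23]'(by decide)) = 1 := by
  simp only [Cfsg.Spor.Ly.extra, List.getElem_cons_succ, List.getElem_cons_zero, map_mul, map_pow, map_inv, FreeGroup.lift_apply_of, fGen]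
  have h := one_of_isOneW relChk24
  simp only [prodW_cons, prodW_nil, mul_inv_rev, inv_inv, pow_succ, pow_zero, one_mul, mul_one, mul_assoc, inv_mul_cancel_left, mul_inv_cancel_left, inv_mul_cancel, mul_inv_cancel, inv_one, um_1, um_3, um_5, um_7, um_11] at h ⊢
  exact h

theorem relator25 : FreeGroup.lift fGen (Cfsg.Spor.Ly.extra[24]'(by decide)) = 1 := by
  simp only [Cfsg.Spor.Ly.extra, List.getElem_cons_succ, List.getElem_cons_zero, map_mul, map_pow, map_inv, FreeGroup.lift_apply_of, fGen]
  have h := one_of_isOneW relChk25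
  simp only [prodW_cons, prodW_nil, mul_inv_rev, inv_inv, pow_succ, pow_zero, one_mul, mul_one, mul_assoc, inv_mul_cancel_left, mul_inv_cancel_left, inv_mul_cancel, mul_inv_cancel, inv_one, um_1, um_3, um_5, um_7, um_11] at h ⊢
  exact h

theorem relator26 : FreeGroup.lift fGen (Cfsg.Spor.Ly.extra[25]'(by decide)) = 1 := by
  simp only [Cfsg.Spor.Ly.extra, List.getElem_cons_succ, List.getElem_cons_zero, map_mul, map_pow, map_inv, FreeGroup.lift_apply_of, fGen]
  have h := one_of_isOneW relChk26
  simp only [prodW_cons, prodW_nil, mul_inv_rev, inv_inv, pow_succ, pow_zero, one_mul, mul_one, mul_assoc, inv_mul_cancel_left, mul_inv_cancel_left, inv_mul_cancel, mul_inv_cancel, inv_one, um_1, um_3, um_5, um_7, um_11] at h ⊢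
  exact h

theorem relator27 : FreeGroup.lift fGen (Cfsg.Spor.Ly.extra[26]'(by decide)) = 1 := by
  simp only [Cfsg.Spor.Ly.extra, List.getElem_cons_succ, List.getElem_cons_zero, map_mul, map_pow, map_inv, FreeGroup.lift_apply_of, fGen]
  have h := one_of_isOneW relChk27
  simp only [prodW_cons, prodW_nil, mul_inv_rev, inv_inv, pow_succ, pow_zero, one_mul, mul_one, mul_assoc, inv_mul_cancel_left, mul_inv_cancel_left, inv_mul_cancel, mul_inv_cancel, inv_one, um_1, um_3, um_5, um_7, um_11] at h ⊢
  exact h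

theorem relator28 : FreeGroup.lift fGen (Cfsg.Spor.Ly.extra[27]'(by decide)) = 1 := by
  simp only [Cfsg.Spor.Ly.extra, List.getElem_cons_succ, List.getElem_cons_zero, map_mul, map_pow, map_inv, FreeGroup.lift_apply_of, fGen]
  have h := one_of_isOneW relChk28
  simp only [prodW_cons, prodW_nil, mul_inv_rev, inv_inv, pow_succ, pow_zero, one_mul, mul_one, mul_assoc, inv_mul_cancel_left, mul_inv_cancel_left, inv_mul_cancel, mul_inv_cancel, inv_one, um_1, um_3, um_5, um_7, um_11] at h ⊢
  exact h

theorem relator29 : FreeGroup.lift fGen (Cfsg.Spor.Ly.extra[28]'(by decide)) = 1 := by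
  simp only [Cfsg.Spor.Ly.extra, List.getElem_cons_succ, List.getElem_cons_zero, map_mul, map_pow, map_inv, FreeGroup.lift_apply_of, fGen]
  simp only [prodW_cons, prodW_nil, mul_inv_rev, inv_inv, pow_succ, pow_zero, one_mul, mul_one, mul_assoc, inv_mul_cancel_left, mul_inv_cancel_left, inv_mul_cancel, mul_inv_cancel, inv_one, um_1, um_3, um_5, um_7, um_11]

theorem relator30 : FreeGroup.lift fGen (Cfsg.Spor.Ly.extra[29]'(by decide)) = 1 := by
  simp only [Cfsg.Spor.Ly.extra, List.getElem_cons_succ, List.getElem_cons_zero, map_mul, map_pow, map_inv, FreeGroup.lift_apply_of, fGen]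
  have h := one_of_isOneW relChk30
  simp only [prodW_cons, prodW_nil, mul_inv_rev, inv_inv, pow_succ, pow_zero, one_mul, mul_one, mul_assoc, inv_mul_cancel_left, mul_inv_cancel_left, inv_mul_cancel, mul_inv_cancel, inv_one, um_1, um_3, um_5, um_7, um_11] at h ⊢
  exact h

theorem relator31 : FreeGroup.lift fGen (Cfsg.Spor.Ly.extra[30]'(by decide)) = 1 := by
  simp only [Cfsg.Spor.Ly.extra, List.getElem_cons_succ, List.getElem_cons_zero, map_mul, map_pow, map_inv, FreeGroup.lift_apply_of, fGen]
  have h := one_of_isOneW relChk31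
  simp only [prodW_cons, prodW_nil, mul_inv_rev, inv_inv, pow_succ, pow_zero, one_mul, mul_one, mul_assoc, inv_mul_cancel_left, mul_inv_cancel_left, inv_mul_cancel, mul_inv_cancel, inv_one, um_1, um_3, um_5, um_7, um_11] at h ⊢
  exact h

theorem relator32 : FreeGroup.lift fGen (Cfsg.Spor.Ly.extra[31]'(by decide)) = 1 := by
  simp only [Cfsg.Spor.Ly.extra, List.getElem_cons_succ, List.getElem_cons_zero, map_mul, map_pow, map_inv, FreeGroup.lift_apply_of, fGen]
  have h := one_of_isOneW relChk32
  simp only [prodW_cons, prodW_nil, mul_inv_rev, inv_inv, pow_succ, pow_zero, one_mul, mul_one, mul_assoc, inv_mul_cancel_left, mul_inv_cancel_left, inv_mul_cancel, mul_inv_cancel, inv_one, um_1, um_3, um_5, um_7, um_11] at h ⊢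
  exact h

theorem relator33 : FreeGroup.lift fGen (Cfsg.Spor.Ly.extra[32]'(by decide)) = 1 := by
  simp only [Cfsg.Spor.Ly.extra, List.getElem_cons_succ, List.getElem_cons_zero, map_mul, map_pow, map_inv, FreeGroup.lift_apply_of, fGen]
  have h := one_of_isOneW relChk33
  simp only [prodW_cons, prodW_nil, mul_inv_rev, inv_inv, pow_succ, pow_zero, one_mul, mul_one, mul_assoc, inv_mul_cancel_left, mul_inv_cancel_left, inv_mul_cancel, mul_inv_cancel, inv_one, um_1, um_3, um_5, um_7, um_11] at h ⊢
  exact h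

theorem relator34 : FreeGroup.lift fGen (Cfsg.Spor.Ly.extra[33]'(by decide)) = 1 := by
  simp only [Cfsg.Spor.Ly.extra, List.getElem_cons_succ, List.getElem_cons_zero, map_mul, map_pow, map_inv, FreeGroup.lift_apply_of, fGen]
  have h := one_of_isOneW relChk34
  simp only [prodW_cons, prodW_nil, mul_inv_rev, inv_inv, pow_succ, pow_zero, one_mul, mul_one, mul_assoc, inv_mul_cancel_left, mul_inv_cancel_left, inv_mul_cancel, mul_inv_cancel, inv_one, um_1, um_3, um_5, um_7, um_11] at h ⊢
  exact h

theorem relator35 : FreeGroup.lift fGen (Cfsg.Spor.Ly.extra[34]'(by decide)) = 1 := by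
  simp only [Cfsg.Spor.Ly.extra, List.getElem_cons_succ, List.getElem_cons_zero, map_mul, map_pow, map_inv, FreeGroup.lift_apply_of, fGen]
  have h := one_of_isOneW relChk35
  simp only [prodW_cons, prodW_nil, mul_inv_rev, inv_inv, pow_succ, pow_zero, one_mul, mul_one, mul_assoc, inv_mul_cancel_left, mul_inv_cancel_left, inv_mul_cancel, mul_inv_cancel, inv_one, um_1, um_3, um_5, um_7, um_11] at h ⊢
  exact h

theorem relator36 : FreeGroup.lift fGen (Cfsg.Spor.Ly.extra[35]'(by decide)) = 1 := by
  simp only [Cfsg.Spor.Ly.extra, List.getElem_cons_succ, List.getElem_cons_zero, map_mul, map_pow, map_inv, FreeGroup.lift_apply_of, fGen]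
  have h := one_of_isOneW relChk36
  simp only [prodW_cons, prodW_nil, mul_inv_rev, inv_inv, pow_succ, pow_zero, one_mul, mul_one, mul_assoc, inv_mul_cancel_left, mul_inv_cancel_left, inv_mul_cancel, mul_inv_cancel, inv_one, um_1, um_3, um_5, um_7, um_11] at h ⊢
  exact h

theorem relator37 : FreeGroup.lift fGen (Cfsg.Spor.Ly.extra[36]'(by decide)) = 1 := by
  simp only [Cfsg.Spor.Ly.extra, List.getElem_cons_succ, List.getElem_cons_zero, map_mul, map_pow, map_inv, FreeGroup.lift_apply_of, fGen]
  have h := one_of_isOneW relChk37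
  simp only [prodW_cons, prodW_nil, mul_inv_rev, inv_inv, pow_succ, pow_zero, one_mul, mul_one, mul_assoc, inv_mul_cancel_left, mul_inv_cancel_left, inv_mul_cancel, mul_inv_cancel, inv_one, um_1, um_3, um_5, um_7, um_11] at h ⊢
  exact h

theorem relator38 : FreeGroup.lift fGen (Cfsg.Spor.Ly.extra[37]'(by decide)) = 1 := by
  simp only [Cfsg.Spor.Ly.extra, List.getElem_cons_succ, List.getElem_cons_zero, map_mul, map_pow, map_inv, FreeGroup.lift_apply_of, fGen]
  have h := one_of_isOneW relChk38
  simp only [prodW_cons, prodW_nil, mul_inv_rev, inv_inv, pow_succ, pow_zero, one_mul, mul_one, mul_assoc, inv_mul_cancel_left, mul_inv_cancel_left, inv_mul_cancel, mul_inv_cancel, inv_one, um_1, um_3, um_5, um_7, um_11] at h ⊢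
  exact h

theorem relator39 : FreeGroup.lift fGen (Cfsg.Spor.Ly.extra[38]'(by decide)) = 1 := by
  simp only [Cfsg.Spor.Ly.extra, List.getElem_cons_succ, List.getElem_cons_zero, map_mul, map_pow, map_inv, FreeGroup.lift_apply_of, fGen]
  have h := one_of_isOneW relChk39
  simp only [prodW_cons, prodW_nil, mul_inv_rev, inv_inv, pow_succ, pow_zero, one_mul, mul_one, mul_assoc, inv_mul_cancel_left, mul_inv_cancel_left, inv_mul_cancel, mul_inv_cancel, inv_one, um_1, um_3, um_5, um_7, um_11] at h ⊢
  exact h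

theorem relator40 : FreeGroup.lift fGen (Cfsg.Spor.Ly.extra[39]'(by decide)) = 1 := by
  simp only [Cfsg.Spor.Ly.extra, List.getElem_cons_succ, List.getElem_cons_zero, map_mul, map_pow, map_inv, FreeGroup.lift_apply_of, fGen]
  have h := one_of_isOneW relChk40
  simp only [prodW_cons, prodW_nil, mul_inv_rev, inv_inv, pow_succ, pow_zero, one_mul, mul_one, mul_assoc, inv_mul_cancel_left, mul_inv_cancel_left, inv_mul_cancel, mul_inv_cancel, inv_one, um_1, um_3, um_5, um_7, um_11] at h ⊢
  exact h

theorem relator41 : FreeGroup.lift fGen (Cfsg.Spor.Ly.extra[40]'(by decide)) = 1 := by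
  simp only [Cfsg.Spor.Ly.extra, List.getElem_cons_succ, List.getElem_cons_zero, map_mul, map_pow, map_inv, FreeGroup.lift_apply_of, fGen]
  have h := one_of_isOneW relChk41
  simp only [prodW_cons, prodW_nil, mul_inv_rev, inv_inv, pow_succ, pow_zero, one_mul, mul_one, mul_assoc, inv_mul_cancel_left, mul_inv_cancel_left, inv_mul_cancel, mul_inv_cancel, inv_one, um_1, um_3, um_5, um_7, um_11] at h ⊢
  exact h

theorem relator42 : FreeGroup.lift fGen (Cfsg.Spor.Ly.extra[41]'(by decide)) = 1 := by
  simp only [Cfsg.Spor.Ly.extra, List.getElem_cons_succ, List.getElem_cons_zero, map_mul, map_pow, map_inv, FreeGroup.lift_apply_of, fGen]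
  have h := one_of_isOneW relChk42
  simp only [prodW_cons, prodW_nil, mul_inv_rev, inv_inv, pow_succ, pow_zero, one_mul, mul_one, mul_assoc, inv_mul_cancel_left, mul_inv_cancel_left, inv_mul_cancel, mul_inv_cancel, inv_one, um_1, um_3, um_5, um_7, um_11] at h ⊢
  exact h

theorem relator43 : FreeGroup.lift fGen (Cfsg.Spor.Ly.extra[42]'(by decide)) = 1 := by
  simp only [Cfsg.Spor.Ly.extra, List.getElem_cons_succ, List.getElem_cons_zero, map_mul, map_pow, map_inv, FreeGroup.lift_apply_of, fGen]
  have h := one_of_isOneW relChk43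
  simp only [prodW_cons, prodW_nil, mul_inv_rev, inv_inv, pow_succ, pow_zero, one_mul, mul_one, mul_assoc, inv_mul_cancel_left, mul_inv_cancel_left, inv_mul_cancel, mul_inv_cancel, inv_one, um_1, um_3, um_5, um_7, um_11] at h ⊢
  exact h

theorem relator44 : FreeGroup.lift fGen (Cfsg.Spor.Ly.extra[43]'(by decide)) = 1 := by
  simp only [Cfsg.Spor.Ly.extra, List.getElem_cons_succ, List.getElem_cons_zero, map_mul, map_pow, map_inv, FreeGroup.lift_apply_of, fGen]
  have h := one_of_isOneW relChk44
  simp only [prodW_cons, prodW_nil, mul_inv_rev, inv_inv, pow_succ, pow_zero, one_mul, mul_one, mul_assoc, inv_mul_cancel_left, mul_inv_cancel_left, inv_mul_cancel, mul_inv_cancel, inv_one, um_1, um_3, um_5, um_7, um_11] at h ⊢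
  exact h

theorem relator45 : FreeGroup.lift fGen (Cfsg.Spor.Ly.extra[44]'(by decide)) = 1 := by
  simp only [Cfsg.Spor.Ly.extra, List.getElem_cons_succ, List.getElem_cons_zero, map_mul, map_pow, map_inv, FreeGroup.lift_apply_of, fGen]
  simp only [prodW_cons, prodW_nil, mul_inv_rev, inv_inv, pow_succ, pow_zero, one_mul, mul_one, mul_assoc, inv_mul_cancel_left, mul_inv_cancel_left, inv_mul_cancel, mul_inv_cancel, inv_one, um_1, um_3, um_5, um_7, um_11]

theorem relator46 : FreeGroup.lift fGen (Cfsg.Spor.Ly.extra[45]'(by decide)) = 1 := by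
  simp only [Cfsg.Spor.Ly.extra, List.getElem_cons_succ, List.getElem_cons_zero, map_mul, map_pow, map_inv, FreeGroup.lift_apply_of, fGen]
  simp only [prodW_cons, prodW_nil, mul_inv_rev, inv_inv, pow_succ, pow_zero, one_mul, mul_one, mul_assoc, inv_mul_cancel_left, mul_inv_cancel_left, inv_mul_cancel, mul_inv_cancel, inv_one, um_1, um_3, um_5, um_7, um_11]

theorem relator47 : FreeGroup.lift fGen (Cfsg.Spor.Ly.extra[46]'(by decide)) = 1 := by
  simp only [Cfsg.Spor.Ly.extra, List.getElem_cons_succ, List.getElem_cons_zero, map_mul, map_pow, map_inv, FreeGroup.lift_apply_of, fGen]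
  simp only [prodW_cons, prodW_nil, mul_inv_rev, inv_inv, pow_succ, pow_zero, one_mul, mul_one, mul_assoc, inv_mul_cancel_left, mul_inv_cancel_left, inv_mul_cancel, mul_inv_cancel, inv_one, um_1, um_3, um_5, um_7, um_11]

theorem relator48 : FreeGroup.lift fGen (Cfsg.Spor.Ly.extra[47]'(by decide)) = 1 := by
  simp only [Cfsg.Spor.Ly.extra, List.getElem_cons_succ, List.getElem_cons_zero, map_mul, map_pow, map_inv, FreeGroup.lift_apply_of, fGen]
  simp only [prodW_cons, prodW_nil, mul_inv_rev, inv_inv, pow_succ, pow_zero, one_mul, mul_one, mul_assoc, inv_mul_cancel_left, mul_inv_cancel_left, inv_mul_cancel, mul_inv_cancel, inv_one, um_1, um_3, um_5, um_7, um_11]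

theorem relator49 : FreeGroup.lift fGen (Cfsg.Spor.Ly.extra[48]'(by decide)) = 1 := by
  simp only [Cfsg.Spor.Ly.extra, List.getElem_cons_succ, List.getElem_cons_zero, map_mul, map_pow, map_inv, FreeGroup.lift_apply_of, fGen]
  simp only [prodW_cons, prodW_nil, mul_inv_rev, inv_inv, pow_succ, pow_zero, one_mul, mul_one, mul_assoc, inv_mul_cancel_left, mul_inv_cancel_left, inv_mul_cancel, mul_inv_cancel, inv_one, um_1, um_3, um_5, um_7, um_11]

theorem relator50 : FreeGroup.lift fGen (Cfsg.Spor.Ly.extra[49]'(by decide)) = 1 := by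
  simp only [Cfsg.Spor.Ly.extra, List.getElem_cons_succ, List.getElem_cons_zero, map_mul, map_pow, map_inv, FreeGroup.lift_apply_of, fGen]
  simp only [prodW_cons, prodW_nil, mul_inv_rev, inv_inv, pow_succ, pow_zero, one_mul, mul_one, mul_assoc, inv_mul_cancel_left, mul_inv_cancel_left, inv_mul_cancel, mul_inv_cancel, inv_one, um_1, um_3, um_5, um_7, um_11]

theorem relator51 : FreeGroup.lift fGen (Cfsg.Spor.Ly.extra[50]'(by decide)) = 1 := by
  simp only [Cfsg.Spor.Ly.extra, List.getElem_cons_succ, List.getElem_cons_zero, map_mul, map_pow, map_inv, FreeGroup.lift_apply_of, fGen]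
  simp only [prodW_cons, prodW_nil, mul_inv_rev, inv_inv, pow_succ, pow_zero, one_mul, mul_one, mul_assoc, inv_mul_cancel_left, mul_inv_cancel_left, inv_mul_cancel, mul_inv_cancel, inv_one, um_1, um_3, um_5, um_7, um_11]

theorem relator52 : FreeGroup.lift fGen (Cfsg.Spor.Ly.extra[51]'(by decide)) = 1 := by
  simp only [Cfsg.Spor.Ly.extra, List.getElem_cons_succ, List.getElem_cons_zero, map_mul, map_pow, map_inv, FreeGroup.lift_apply_of, fGen]
  simp only [prodW_cons, prodW_nil, mul_inv_rev, inv_inv, pow_succ, pow_zero, one_mul, mul_one, mul_assoc, inv_mul_cancel_left, mul_inv_cancel_left, inv_mul_cancel, mul_inv_cancel, inv_one, um_1, um_3, um_5, um_7, um_11]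

theorem relator53 : FreeGroup.lift fGen (Cfsg.Spor.Ly.extra[52]'(by decide)) = 1 := by
  simp only [Cfsg.Spor.Ly.extra, List.getElem_cons_succ, List.getElem_cons_zero, map_mul, map_pow, map_inv, FreeGroup.lift_apply_of, fGen]
  simp only [prodW_cons, prodW_nil, mul_inv_rev, inv_inv, pow_succ, pow_zero, one_mul, mul_one, mul_assoc, inv_mul_cancel_left, mul_inv_cancel_left, inv_mul_cancel, mul_inv_cancel, inv_one, um_1, um_3, um_5, um_7, um_11]

theorem relator54 : FreeGroup.lift fGen (Cfsg.Spor.Ly.extra[53]'(by decide)) = 1 := by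
  simp only [Cfsg.Spor.Ly.extra, List.getElem_cons_succ, List.getElem_cons_zero, map_mul, map_pow, map_inv, FreeGroup.lift_apply_of, fGen]
  simp only [prodW_cons, prodW_nil, mul_inv_rev, inv_inv, pow_succ, pow_zero, one_mul, mul_one, mul_assoc, inv_mul_cancel_left, mul_inv_cancel_left, inv_mul_cancel, mul_inv_cancel, inv_one, um_1, um_3, um_5, um_7, um_11]

theorem relator55 : FreeGroup.lift fGen (Cfsg.Spor.Ly.extra[54]'(by decide)) = 1 := by
  simp only [Cfsg.Spor.Ly.extra, List.getElem_cons_succ, List.getElem_cons_zero, map_mul, map_pow, map_inv, FreeGroup.lift_apply_of, fGen]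
  simp only [prodW_cons, prodW_nil, mul_inv_rev, inv_inv, pow_succ, pow_zero, one_mul, mul_one, mul_assoc, inv_mul_cancel_left, mul_inv_cancel_left, inv_mul_cancel, mul_inv_cancel, inv_one, um_1, um_3, um_5, um_7, um_11]

theorem relator56 : FreeGroup.lift fGen (Cfsg.Spor.Ly.extra[55]'(by decide)) = 1 := by
  simp only [Cfsg.Spor.Ly.extra, List.getElem_cons_succ, List.getElem_cons_zero, map_mul, map_pow, map_inv, FreeGroup.lift_apply_of, fGen]
  simp only [prodW_cons, prodW_nil, mul_inv_rev, inv_inv, pow_succ, pow_zero, one_mul, mul_one, mul_assoc, inv_mul_cancel_left, mul_inv_cancel_left, inv_mul_cancel, mul_inv_cancel, inv_one, um_1, um_3, um_5, um_7, um_11]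

theorem relator57 : FreeGroup.lift fGen (Cfsg.Spor.Ly.extra[56]'(by decide)) = 1 := by
  simp only [Cfsg.Spor.Ly.extra, List.getElem_cons_succ, List.getElem_cons_zero, map_mul, map_pow, map_inv, FreeGroup.lift_apply_of, fGen]
  simp only [prodW_cons, prodW_nil, mul_inv_rev, inv_inv, pow_succ, pow_zero, one_mul, mul_one, mul_assoc, inv_mul_cancel_left, mul_inv_cancel_left, inv_mul_cancel, mul_inv_cancel, inv_one, um_1, um_3, um_5, um_7, um_11]

theorem relator58 : FreeGroup.lift fGen (Cfsg.Spor.Ly.extra[57]'(by decide)) = 1 := by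
  simp only [Cfsg.Spor.Ly.extra, List.getElem_cons_succ, List.getElem_cons_zero, map_mul, map_pow, map_inv, FreeGroup.lift_apply_of, fGen]
  simp only [prodW_cons, prodW_nil, mul_inv_rev, inv_inv, pow_succ, pow_zero, one_mul, mul_one, mul_assoc, inv_mul_cancel_left, mul_inv_cancel_left, inv_mul_cancel, mul_inv_cancel, inv_one, um_1, um_3, um_5, um_7, um_11]

theorem relator59 : FreeGroup.lift fGen (Cfsg.Spor.Ly.extra[58]'(by decide)) = 1 := by
  simp only [Cfsg.Spor.Ly.extra, List.getElem_cons_succ, List.getElem_cons_zero, map_mul, map_pow, map_inv, FreeGroup.lift_apply_of, fGen]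
  simp only [prodW_cons, prodW_nil, mul_inv_rev, inv_inv, pow_succ, pow_zero, one_mul, mul_one, mul_assoc, inv_mul_cancel_left, mul_inv_cancel_left, inv_mul_cancel, mul_inv_cancel, inv_one, um_1, um_3, um_5, um_7, um_11]

theorem relator60 : FreeGroup.lift fGen (Cfsg.Spor.Ly.extra[59]'(by decide)) = 1 := by
  simp only [Cfsg.Spor.Ly.extra, List.getElem_cons_succ, List.getElem_cons_zero, map_mul, map_pow, map_inv, FreeGroup.lift_apply_of, fGen]
  simp only [prodW_cons, prodW_nil, mul_inv_rev, inv_inv, pow_succ, pow_zero, one_mul, mul_one, mul_assoc, inv_mul_cancel_left, mul_inv_cancel_left, inv_mul_cancel, mul_inv_cancel, inv_one, um_1, um_3, um_5, um_7, um_11]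

theorem relator61 : FreeGroup.lift fGen (Cfsg.Spor.Ly.extra[60]'(by decide)) = 1 := by
  simp only [Cfsg.Spor.Ly.extra, List.getElem_cons_succ, List.getElem_cons_zero, map_mul, map_pow, map_inv, FreeGroup.lift_apply_of, fGen]
  simp only [prodW_cons, prodW_nil, mul_inv_rev, inv_inv, pow_succ, pow_zero, one_mul, mul_one, mul_assoc, inv_mul_cancel_left, mul_inv_cancel_left, inv_mul_cancel, mul_inv_cancel, inv_one, um_1, um_3, um_5, um_7, um_11]

theorem relator62 : FreeGroup.lift fGen (Cfsg.Spor.Ly.extra[61]'(by decide)) = 1 := by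
  simp only [Cfsg.Spor.Ly.extra, List.getElem_cons_succ, List.getElem_cons_zero, map_mul, map_pow, map_inv, FreeGroup.lift_apply_of, fGen]
  simp only [prodW_cons, prodW_nil, mul_inv_rev, inv_inv, pow_succ, pow_zero, one_mul, mul_one, mul_assoc, inv_mul_cancel_left, mul_inv_cancel_left, inv_mul_cancel, mul_inv_cancel, inv_one, um_1, um_3, um_5, um_7, um_11]

theorem relator63 : FreeGroup.lift fGen (Cfsg.Spor.Ly.extra[62]'(by decide)) = 1 := by
  simp only [Cfsg.Spor.Ly.extra, List.getElem_cons_succ, List.getElem_cons_zero, map_mul, map_pow, map_inv, FreeGroup.lift_apply_of, fGen]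
  simp only [prodW_cons, prodW_nil, mul_inv_rev, inv_inv, pow_succ, pow_zero, one_mul, mul_one, mul_assoc, inv_mul_cancel_left, mul_inv_cancel_left, inv_mul_cancel, mul_inv_cancel, inv_one, um_1, um_3, um_5, um_7, um_11]

theorem relator64 : FreeGroup.lift fGen (Cfsg.Spor.Ly.extra[63]'(by decide)) = 1 := by
  simp only [Cfsg.Spor.Ly.extra, List.getElem_cons_succ, List.getElem_cons_zero, map_mul, map_pow, map_inv, FreeGroup.lift_apply_of, fGen]
  simp only [prodW_cons, prodW_nil, mul_inv_rev, inv_inv, pow_succ, pow_zero, one_mul, mul_one, mul_assoc, inv_mul_cancel_left, mul_inv_cancel_left, inv_mul_cancel, mul_inv_cancel, inv_one, um_1, um_3, um_5, um_7, um_11]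

theorem relator65 : FreeGroup.lift fGen (Cfsg.Spor.Ly.extra[64]'(by decide)) = 1 := by
  simp only [Cfsg.Spor.Ly.extra, List.getElem_cons_succ, List.getElem_cons_zero, map_mul, map_pow, map_inv, FreeGroup.lift_apply_of, fGen]
  simp only [prodW_cons, prodW_nil, mul_inv_rev, inv_inv, pow_succ, pow_zero, one_mul, mul_one, mul_assoc, inv_mul_cancel_left, mul_inv_cancel_left, inv_mul_cancel, mul_inv_cancel, inv_one, um_1, um_3, um_5, um_7, um_11]

theorem relator66 : FreeGroup.lift fGen (Cfsg.Spor.Ly.extra[65]'(by decide)) = 1 := by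
  simp only [Cfsg.Spor.Ly.extra, List.getElem_cons_succ, List.getElem_cons_zero, map_mul, map_pow, map_inv, FreeGroup.lift_apply_of, fGen]
  simp only [prodW_cons, prodW_nil, mul_inv_rev, inv_inv, pow_succ, pow_zero, one_mul, mul_one, mul_assoc, inv_mul_cancel_left, mul_inv_cancel_left, inv_mul_cancel, mul_inv_cancel, inv_one, um_1, um_3, um_5, um_7, um_11]

theorem relator67 : FreeGroup.lift fGen (Cfsg.Spor.Ly.extra[66]'(by decide)) = 1 := by
  simp only [Cfsg.Spor.Ly.extra, List.getElem_cons_succ, List.getElem_cons_zero, map_mul, map_pow, map_inv, FreeGroup.lift_apply_of, fGen]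
  simp only [prodW_cons, prodW_nil, mul_inv_rev, inv_inv, pow_succ, pow_zero, one_mul, mul_one, mul_assoc, inv_mul_cancel_left, mul_inv_cancel_left, inv_mul_cancel, mul_inv_cancel, inv_one, um_1, um_3, um_5, um_7, um_11]

theorem relator68 : FreeGroup.lift fGen (Cfsg.Spor.Ly.extra[67]'(by decide)) = 1 := by
  simp only [Cfsg.Spor.Ly.extra, List.getElem_cons_succ, List.getElem_cons_zero, map_mul, map_pow, map_inv, FreeGroup.lift_apply_of, fGen]
  simp only [prodW_cons, prodW_nil, mul_inv_rev, inv_inv, pow_succ, pow_zero, one_mul, mul_one, mul_assoc, inv_mul_cancel_left, mul_inv_cancel_left, inv_mul_cancel, mul_inv_cancel, inv_one, um_1, um_3, um_5, um_7, um_11]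

theorem relator69 : FreeGroup.lift fGen (Cfsg.Spor.Ly.extra[68]'(by decide)) = 1 := by
  simp only [Cfsg.Spor.Ly.extra, List.getElem_cons_succ, List.getElem_cons_zero, map_mul, map_pow, map_inv, FreeGroup.lift_apply_of, fGen]
  simp only [prodW_cons, prodW_nil, mul_inv_rev, inv_inv, pow_succ, pow_zero, one_mul, mul_one, mul_assoc, inv_mul_cancel_left, mul_inv_cancel_left, inv_mul_cancel, mul_inv_cancel, inv_one, um_1, um_3, um_5, um_7, um_11]

theorem relator70 : FreeGroup.lift fGen (Cfsg.Spor.Ly.extra[69]'(by decide)) = 1 := by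
  simp only [Cfsg.Spor.Ly.extra, List.getElem_cons_succ, List.getElem_cons_zero, map_mul, map_pow, map_inv, FreeGroup.lift_apply_of, fGen]
  simp only [prodW_cons, prodW_nil, mul_inv_rev, inv_inv, pow_succ, pow_zero, one_mul, mul_one, mul_assoc, inv_mul_cancel_left, mul_inv_cancel_left, inv_mul_cancel, mul_inv_cancel, inv_one, um_1, um_3, um_5, um_7, um_11]

theorem relator71 : FreeGroup.lift fGen (Cfsg.Spor.Ly.extra[70]'(by decide)) = 1 := by
  simp only [Cfsg.Spor.Ly.extra, List.getElem_cons_succ, List.getElem_cons_zero, map_mul, map_pow, map_inv, FreeGroup.lift_apply_of, fGen]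
  simp only [prodW_cons, prodW_nil, mul_inv_rev, inv_inv, pow_succ, pow_zero, one_mul, mul_one, mul_assoc, inv_mul_cancel_left, mul_inv_cancel_left, inv_mul_cancel, mul_inv_cancel, inv_one, um_1, um_3, um_5, um_7, um_11]

theorem relator72 : FreeGroup.lift fGen (Cfsg.Spor.Ly.extra[71]'(by decide)) = 1 := by
  simp only [Cfsg.Spor.Ly.extra, List.getElem_cons_succ, List.getElem_cons_zero, map_mul, map_pow, map_inv, FreeGroup.lift_apply_of, fGen]
  simp only [prodW_cons, prodW_nil, mul_inv_rev, inv_inv, pow_succ, pow_zero, one_mul, mul_one, mul_assoc, inv_mul_cancel_left, mul_inv_cancel_left, inv_mul_cancel, mul_inv_cancel, inv_one, um_1, um_3, um_5, um_7, um_11]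

theorem relator73 : FreeGroup.lift fGen (Cfsg.Spor.Ly.extra[72]'(by decide)) = 1 := by
  simp only [Cfsg.Spor.Ly.extra, List.getElem_cons_succ, List.getElem_cons_zero, map_mul, map_pow, map_inv, FreeGroup.lift_apply_of, fGen]
  have h := one_of_isOneW relChk73
  simp only [prodW_cons, prodW_nil, mul_inv_rev, inv_inv, pow_succ, pow_zero, one_mul, mul_one, mul_assoc, inv_mul_cancel_left, mul_inv_cancel_left, inv_mul_cancel, mul_inv_cancel, inv_one, um_1, um_3, um_5, um_7, um_11] at h ⊢
  exact h

theorem relator74 : FreeGroup.lift fGen (Cfsg.Spor.Ly.extra[73]'(by decide)) = 1 := by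
  simp only [Cfsg.Spor.Ly.extra, List.getElem_cons_succ, List.getElem_cons_zero, map_mul, map_pow, map_inv, FreeGroup.lift_apply_of, fGen]
  have h := one_of_isOneW relChk74
  simp only [prodW_cons, prodW_nil, mul_inv_rev, inv_inv, pow_succ, pow_zero, one_mul, mul_one, mul_assoc, inv_mul_cancel_left, mul_inv_cancel_left, inv_mul_cancel, mul_inv_cancel, inv_one, um_1, um_3, um_5, um_7, um_11] at h ⊢
  exact h

theorem relator75 : FreeGroup.lift fGen (Cfsg.Spor.Ly.extra[74]'(by decide)) = 1 := by
  simp only [Cfsg.Spor.Ly.extra, List.getElem_cons_succ, List.getElem_cons_zero, map_mul, map_pow, map_inv, FreeGroup.lift_apply_of, fGen]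
  have h := one_of_isOneW relChk75
  simp only [prodW_cons, prodW_nil, mul_inv_rev, inv_inv, pow_succ, pow_zero, one_mul, mul_one, mul_assoc, inv_mul_cancel_left, mul_inv_cancel_left, inv_mul_cancel, mul_inv_cancel, inv_one, um_1, um_3, um_5, um_7, um_11] at h ⊢
  exact h

theorem relator76 : FreeGroup.lift fGen (Cfsg.Spor.Ly.extra[75]'(by decide)) = 1 := by
  simp only [Cfsg.Spor.Ly.extra, List.getElem_cons_succ, List.getElem_cons_zero, map_mul, map_pow, map_inv, FreeGroup.lift_apply_of, fGen]
  have h := one_of_isOneW relChk76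
  simp only [prodW_cons, prodW_nil, mul_inv_rev, inv_inv, pow_succ, pow_zero, one_mul, mul_one, mul_assoc, inv_mul_cancel_left, mul_inv_cancel_left, inv_mul_cancel, mul_inv_cancel, inv_one, um_1, um_3, um_5, um_7, um_11] at h ⊢
  exact h

theorem relator77 : FreeGroup.lift fGen (Cfsg.Spor.Ly.extra[76]'(by decide)) = 1 := by
  simp only [Cfsg.Spor.Ly.extra, List.getElem_cons_succ, List.getElem_cons_zero, map_mul, map_pow, map_inv, FreeGroup.lift_apply_of, fGen]
  have h := one_of_isOneW relChk77
  simp only [prodW_cons, prodW_nil, mul_inv_rev, inv_inv, pow_succ, pow_zero, one_mul, mul_one, mul_assoc, inv_mul_cancel_left, mul_inv_cancel_left, inv_mul_cancel, mul_inv_cancel, inv_one, um_1, um_3, um_5, um_7, um_11] at h ⊢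
  exact h

theorem relator78 : FreeGroup.lift fGen (Cfsg.Spor.Ly.extra[77]'(by decide)) = 1 := by
  simp only [Cfsg.Spor.Ly.extra, List.getElem_cons_succ, List.getElem_cons_zero, map_mul, map_pow, map_inv, FreeGroup.lift_apply_of, fGen]
  have h := one_of_isOneW relChk78
  simp only [prodW_cons, prodW_nil, mul_inv_rev, inv_inv, pow_succ, pow_zero, one_mul, mul_one, mul_assoc, inv_mul_cancel_left, mul_inv_cancel_left, inv_mul_cancel, mul_inv_cancel, inv_one, um_1, um_3, um_5, um_7, um_11] at h ⊢
  exact h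

theorem relator79 : FreeGroup.lift fGen (Cfsg.Spor.Ly.extra[78]'(by decide)) = 1 := by
  simp only [Cfsg.Spor.Ly.extra, List.getElem_cons_succ, List.getElem_cons_zero, map_mul, map_pow, map_inv, FreeGroup.lift_apply_of, fGen]
  have h := one_of_isOneW relChk79
  simp only [prodW_cons, prodW_nil, mul_inv_rev, inv_inv, pow_succ, pow_zero, one_mul, mul_one, mul_assoc, inv_mul_cancel_left, mul_inv_cancel_left, inv_mul_cancel, mul_inv_cancel, inv_one, um_1, um_3, um_5, um_7, um_11] at h ⊢
  exact h

theorem relator80 : FreeGroup.lift fGen (Cfsg.Spor.Ly.extra[79]'(by decide)) = 1 := by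
  simp only [Cfsg.Spor.Ly.extra, List.getElem_cons_succ, List.getElem_cons_zero, map_mul, map_pow, map_inv, FreeGroup.lift_apply_of, fGen]
  have h := one_of_isOneW relChk80
  simp only [prodW_cons, prodW_nil, mul_inv_rev, inv_inv, pow_succ, pow_zero, one_mul, mul_one, mul_assoc, inv_mul_cancel_left, mul_inv_cancel_left, inv_mul_cancel, mul_inv_cancel, inv_one, um_1, um_3, um_5, um_7, um_11] at h ⊢
  exact h

theorem relator81 : FreeGroup.lift fGen (Cfsg.Spor.Ly.extra[80]'(by decide)) = 1 := by
  simp only [Cfsg.Spor.Ly.extra, List.getElem_cons_succ, List.getElem_cons_zero, map_mul, map_pow, map_inv, FreeGroup.lift_apply_of, fGen]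
  have h := one_of_isOneW relChk81
  simp only [prodW_cons, prodW_nil, mul_inv_rev, inv_inv, pow_succ, pow_zero, one_mul, mul_one, mul_assoc, inv_mul_cancel_left, mul_inv_cancel_left, inv_mul_cancel, mul_inv_cancel, inv_one, um_1, um_3, um_5, um_7, um_11] at h ⊢
  exact h

theorem relator82 : FreeGroup.lift fGen (Cfsg.Spor.Ly.extra[81]'(by decide)) = 1 := by
  simp only [Cfsg.Spor.Ly.extra, List.getElem_cons_succ, List.getElem_cons_zero, map_mul, map_pow, map_inv, FreeGroup.lift_apply_of, fGen]
  have h := one_of_isOneW relChk82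
  simp only [prodW_cons, prodW_nil, mul_inv_rev, inv_inv, pow_succ, pow_zero, one_mul, mul_one, mul_assoc, inv_mul_cancel_left, mul_inv_cancel_left, inv_mul_cancel, mul_inv_cancel, inv_one, um_1, um_3, um_5, um_7, um_11] at h ⊢
  exact h

theorem relator83 : FreeGroup.lift fGen (Cfsg.Spor.Ly.extra[82]'(by decide)) = 1 := by
  simp only [Cfsg.Spor.Ly.extra, List.getElem_cons_succ, List.getElem_cons_zero, map_mul, map_pow, map_inv, FreeGroup.lift_apply_of, fGen]
  have h := one_of_isOneW relChk83
  simp only [prodW_cons, prodW_nil, mul_inv_rev, inv_inv, pow_succ, pow_zero, one_mul, mul_one, mul_assoc, inv_mul_cancel_left, mul_inv_cancel_left, inv_mul_cancel, mul_inv_cancel, inv_one, um_1, um_3, um_5, um_7, um_11] at h ⊢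
  exact h

theorem relator84 : FreeGroup.lift fGen (Cfsg.Spor.Ly.extra[83]'(by decide)) = 1 := by
  simp only [Cfsg.Spor.Ly.extra, List.getElem_cons_succ, List.getElem_cons_zero, map_mul, map_pow, map_inv, FreeGroup.lift_apply_of, fGen]
  have h := one_of_isOneW relChk84
  simp only [prodW_cons, prodW_nil, mul_inv_rev, inv_inv, pow_succ, pow_zero, one_mul, mul_one, mul_assoc, inv_mul_cancel_left, mul_inv_cancel_left, inv_mul_cancel, mul_inv_cancel, inv_one, um_1, um_3, um_5, um_7, um_11] at h ⊢
  exact h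

theorem relator85 : FreeGroup.lift fGen (Cfsg.Spor.Ly.extra[84]'(by decide)) = 1 := by
  simp only [Cfsg.Spor.Ly.extra, List.getElem_cons_succ, List.getElem_cons_zero, map_mul, map_pow, map_inv, FreeGroup.lift_apply_of, fGen]
  have h := one_of_isOneW relChk85
  simp only [prodW_cons, prodW_nil, mul_inv_rev, inv_inv, pow_succ, pow_zero, one_mul, mul_one, mul_assoc, inv_mul_cancel_left, mul_inv_cancel_left, inv_mul_cancel, mul_inv_cancel, inv_one, um_1, um_3, um_5, um_7, um_11] at h ⊢
  exact h

theorem relator86 : FreeGroup.lift fGen (Cfsg.Spor.Ly.extra[85]'(by decide)) = 1 := by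
  simp only [Cfsg.Spor.Ly.extra, List.getElem_cons_succ, List.getElem_cons_zero, map_mul, map_pow, map_inv, FreeGroup.lift_apply_of, fGen]
  have h := one_of_isOneW relChk86
  simp only [prodW_cons, prodW_nil, mul_inv_rev, inv_inv, pow_succ, pow_zero, one_mul, mul_one, mul_assoc, inv_mul_cancel_left, mul_inv_cancel_left, inv_mul_cancel, mul_inv_cancel, inv_one, um_1, um_3, um_5, um_7, um_11] at h ⊢
  exact h

theorem relators_one : ∀ r ∈ CfsgLib.LyPres.Rels, FreeGroup.lift fGen r = 1 := by
  intro r hr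
  rcases hr with hr | hr
  · simp [Cfsg.Spor.coxRelators, Cfsg.Spor.Ly.edges, Cfsg.Spor.coxNodes] at hr
  · obtain ⟨k, hk, rfl⟩ := List.getElem_of_mem hr
    replace hk : k < 86 := hk
    interval_cases k
    · exact relator1
    · exact relator2
    · exact relator3
    · exact relator4
    · exact relator5
    · exact relator6
    · exact relator7
    · exact relator8
    · exact relator9
    · exact relator10
    · exact relator11
    · exact relator12
    · exact relator13
    · exact relator14
    · exact relator15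
    · exact relator16
    · exact relator17
    · exact relator18
    · exact relator19
    · exact relator20
    · exact relator21
    · exact relator22
    · exact relator23
    · exact relator24
    · exact relator25
    · exact relator26
    · exact relator27
    · exact relator28
    · exact relator29
    · exact relator30
    · exact relator31
    · exact relator32
    · exact relator33
    · exact relator34
    · exact relator35
    · exact relator36
    · exact relator37
    · exact relator38
    · exact relator39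
    · exact relator40
    · exact relator41
    · exact relator42
    · exact relator43
    · exact relator44
    · exact relator45
    · exact relator46
    · exact relator47
    · exact relator48
    · exact relator49
    · exact relator50
    · exact relator51
    · exact relator52
    · exact relator53
    · exact relator54
    · exact relator55
    · exact relator56
    · exact relator57
    · exact relator58
    · exact relator59
    · exact relator60
    · exact relator61
    · exact relator62
    · exact relator63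
    · exact relator64
    · exact relator65
    · exact relator66
    · exact relator67
    · exact relator68
    · exact relator69
    · exact relator70
    · exact relator71
    · exact relator72
    · exact relator73
    · exact relator74
    · exact relator75
    · exact relator76
    · exact relator77
    · exact relator78
    · exact relator79
    · exact relator80
    · exact relator81
    · exact relator82
    · exact relator83
    · exact relator84
    · exact relator85
    · exact relator86

/-- the representation -/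
noncomputable def rho : CfsgLib.LyPres.G →* U111 := PresentedGroup.toGroup relators_one

end CfsgLib.LyRep
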