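import Cfsg.Agent.Lib.LyRep.RelChk9
import Cfsg.Agent.Lib.LyPres.TwistData

/-!
Kernel checks for lower bounds: elements outside a block triangular group, orders of elements.
-/

set_option autoImplicit false
set_option linter.style.longLine false
set_option Elab.async false

namespace CfsgLib.LyRep

open CfsgLib.TwistCoset

/-- entry number `t` of the matrix of a word is nonzero and outside the block triangle -/
noncomputable def offBlock (w : List ℕ) (t : ℕ) : Bool :=
  Nat.blt t 777 && Nat.ble 7 (t % 111) && Nat.blt 0 (slot (mW w) t)

/-- entry number `t` of the matrix of a word differs from that of the unit matrix -/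
noncomputable def offOne (w : List ℕ) (t : ℕ) : Bool :=
  Nat.blt t 12321 && !(Nat.beq (slot (mW w) t) (slot oneN t))

/-- the eight generators are block triangular -/
noncomputable def genBlock (c : ℕ) : Bool :=
  (List.range 7).all fun i => (List.range 104).all fun j =>
    Nat.beq (slot (pk c) (111 * i + (j + 7))) 0

theorem genBlock_all : ((List.range 8).all genBlock) = true := by decide +kernel

theorem z_off : offBlock [10] 84 = true := by decide +kernel

theorem b_off : offBlock [10, 2, 11] 93 = true := by decide +kernel

/-- witnesses for the double cosets of the first state that move the first point -/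
def moveWit : List (ℕ × ℕ × ℕ) := [(1, 0, 11), (1, 1, 11), (1, 2, 11), (1, 3, 11), (1, 4, 11), (2, 0, 9), (2, 1, 9), (2, 2, 9), (2, 3, 9), (2, 4, 9), (3, 0, 38), (3, 1, 38), (3, 2, 38), (3, 3, 38), (3, 4, 38)]

theorem moveWit_ok : (moveWit.all fun e => offBlock (10 :: ((CfsgLib.LyPres.tw.root 1 e.1).g ++
    CfsgLib.LyPres.tw.cosL.getD e.2.1 []) ++ [11]) e.2.2) = true := by decide +kernel

/-- the word of the last state -/
def wFour : List ℕ := [10, 5, 2, 1, 3, 6, 4, 3, 6, 10]

/-- an element of order 31 -/
def gThirtyOne : List ℕ := [1, 5, 7]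

theorem four_off : offBlock (wFour ++ gThirtyOne ++ [11, 7, 2, 5, 7, 2, 0, 3, 4, 11]) 7 = true := by decide +kernel

theorem ord11 : isOneW (List.replicate 11 [10, 2, 7, 4, 6, 10, 2, 7, 4, 6]).flatten = true ∧ offOne [10, 2, 7, 4, 6, 10, 2, 7, 4, 6] 0 = true := by
  refine ⟨?_, ?_⟩ <;> decide +kernel

/-- the number with the given binary digits, the lowest first -/
def bitsVal : List Bool → ℕ
  | [] => 0
  | b :: l => b.toNat + 2 * bitsVal l

/-- a power of a packed matrix by repeated squaring -/
noncomputable def powA : List Bool → ℕ → ℕ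
  | [], _ => oneN
  | b :: l, a => force (powA l a) fun r => force (mulN r r) fun s => cond b (mulN s a) s

/-- the power of the matrix of a word with the given binary exponent is trivial -/
noncomputable def powOne (w : List ℕ) (l : List Bool) : Bool :=
  force (mW w) fun a => Nat.beq (powA l a) oneN

theorem powA_spec {a : ℕ} (ha : Good a) :
    ∀ l, Good (powA l a) ∧ toM (powA l a) = toM a ^ bitsVal l
  | [] => by simp [powA, bitsVal, good_oneN, toM_oneN]
  | b :: l => by
    obtain ⟨g, e⟩ := powA_spec ha l
    cases b
    · simp only [powA, force_eq, cond_false]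
      refine ⟨good_mulN g g, ?_⟩
      rw [toM_mulN g g, e, ← pow_add]
      simp [bitsVal, two_mul]
    · simp only [powA, force_eq, cond_true]
      refine ⟨good_mulN (good_mulN g g) ha, ?_⟩
      rw [toM_mulN (good_mulN g g) ha, toM_mulN g g, e, ← pow_add, ← pow_succ]
      congr 1
      simp [bitsVal]
      omega

theorem pow_of_powOne {w : List ℕ} {l : List Bool} (h : powOne w l = true) :
    CosetEnum.prodW um w ^ bitsVal l = 1 := by
  rw [powOne, force_eq] at h
  have e := (powA_spec (good_mW w) l).2
  rw [Nat.eq_of_beq_eq_true h, toM_oneN, ← val_prodW] at e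
  exact Units.ext (by simpa using e.symm)

theorem ord37 : CosetEnum.prodW um [10, 1, 4, 7] ^ 37 = 1 ∧ offOne [10, 1, 4, 7] 2 = true :=
  ⟨pow_of_powOne (l := [true, false, true, false, false, true]) (by decide +kernel), by decide +kernel⟩

theorem ord67 : CosetEnum.prodW um [10, 3, 5, 10, 6] ^ 67 = 1 ∧ offOne [10, 3, 5, 10, 6] 0 = true :=
  ⟨pow_of_powOne (l := [true, true, false, false, false, false, true]) (by decide +kernel), by decide +kernel⟩

end CfsgLib.LyRep
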