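import Cfsg.Agent.Lib.LyRep.Data
import Cfsg.Agent.Lib.CosetEnum.Sound

/-!
Products of the generator matrices along words.
-/

set_option autoImplicit false
set_option Elab.async false

namespace CfsgLib.LyRep

open CfsgLib.CosetEnum

/-- invertible matrices of size 111 over the field with 5 elements -/
abbrev U111 : Type := (Matrix (Fin 111) (Fin 111) (ZMod 5))ˣ

/-- the packed matrix of a letter -/
noncomputable def pk : ℕ → ℕ
  | 0 => mA
  | 1 => mA'
  | 2 => mB
  | 3 => mB'
  | 4 => mC
  | 5 => mC'
  | 6 => mD
  | 7 => mD'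
  | 10 => mZ
  | 11 => mZ'
  | _ => oneN

attribute [local irreducible] mA mA' mB mB' mC mC' mD mD' mZ mZ' oneN

theorem test_gens : (matTest mA && matTest mA' && matTest mB && matTest mB' && matTest mC &&
    matTest mC' && matTest mD && matTest mD' && matTest mZ && matTest mZ') = true := by
  decide +kernel

theorem good_pk : ∀ c, Good (pk c) := by
  have h := test_gens
  simp only [Bool.and_eq_true] at h
  obtain ⟨⟨⟨⟨⟨⟨⟨⟨⟨h0, h1⟩, h2⟩, h3⟩, h4⟩, h5⟩, h6⟩, h7⟩, h10⟩, h11⟩ := h
  replace h0 := good_of_matTest h0
  replace h1 := good_of_matTest h1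
  replace h2 := good_of_matTest h2
  replace h3 := good_of_matTest h3
  replace h4 := good_of_matTest h4
  replace h5 := good_of_matTest h5
  replace h6 := good_of_matTest h6
  replace h7 := good_of_matTest h7
  replace h10 := good_of_matTest h10
  replace h11 := good_of_matTest h11
  intro c
  unfold pk
  split <;> first | assumption | exact good_oneN

/-- the packed product along a word, from a given one -/
noncomputable def mWFrom : List ℕ → ℕ → ℕ
  | [], acc => acc
  | c :: w, acc => force (mulN acc (pk c)) fun v => mWFrom w v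

/-- the packed product along a word -/
noncomputable def mW (w : List ℕ) : ℕ := mWFrom w oneN

/-- the product along a word is trivial -/
noncomputable def isOneW (w : List ℕ) : Bool := Nat.beq (mW w) oneN

/-- the inverse of a letter -/
def invL : ℕ → ℕ
  | 0 => 1
  | 1 => 0
  | 2 => 3
  | 3 => 2
  | 4 => 5
  | 5 => 4
  | 6 => 7
  | 7 => 6
  | 10 => 11
  | 11 => 10
  | c => c

theorem pairs_chk : ((List.range 12).all fun c => isOneW [c, invL c]) = true := by decide +kernel

theorem mW_of_isOneW {w : List ℕ} (h : isOneW w = true) : mW w = oneN := by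
  rw [isOneW] at h
  exact Nat.eq_of_beq_eq_true h

theorem toM_mWFrom : ∀ (w : List ℕ) (acc : ℕ), Good acc →
    Good (mWFrom w acc) ∧ toM (mWFrom w acc) = toM acc * (w.map fun c => toM (pk c)).prod
  | [], acc, h => by simp [mWFrom, h]
  | c :: w, acc, h => by
    rw [mWFrom, force_eq]
    obtain ⟨h1, h2⟩ := toM_mWFrom w _ (good_mulN h (good_pk c))
    exact ⟨h1, by rw [h2, toM_mulN h (good_pk c), List.map_cons, List.prod_cons, mul_assoc]⟩

theorem good_mW (w : List ℕ) : Good (mW w) := (toM_mWFrom w _ good_oneN).1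

theorem pk_mul_inv (c : ℕ) : toM (pk c) * toM (pk (invL c)) = 1 := by
  by_cases h : c < 12
  · have h1 := List.all_eq_true.mp pairs_chk c (List.mem_range.mpr h)
    have h2 : mW [c, invL c] = oneN := mW_of_isOneW h1
    have h3 := (toM_mWFrom [c, invL c] _ good_oneN).2
    rw [← mW, h2, toM_oneN] at h3
    simpa using h3.symm
  · match c with
    | n + 12 =>
      have e1 : pk (n + 12) = oneN := by unfold pk; split <;> first | omega | rfl
      have e2 : invL (n + 12) = n + 12 := rfl
      rw [e2, e1, toM_oneN, one_mul]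

/-- a letter as an invertible matrix -/
noncomputable def um (c : ℕ) : U111 where
  val := toM (pk c)
  inv := toM (pk (invL c))
  val_inv := pk_mul_inv c
  inv_val := by
    have e : invL (invL c) = c := by
      match c with
      | 0 | 1 | 2 | 3 | 4 | 5 | 6 | 7 | 8 | 9 | 10 | 11 => rfl
      | _ + 12 => rfl
    simpa only [e] using pk_mul_inv (invL c)

theorem val_prodW (w : List ℕ) : ((prodW um w : U111) : Matrix (Fin 111) (Fin 111) (ZMod 5)) = toM (mW w) := by
  rw [mW, (toM_mWFrom w _ good_oneN).2, toM_oneN, one_mul]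
  induction w with
  | nil => simp
  | cons c w ih => simp [um, ih]

theorem one_of_isOneW {w : List ℕ} (h : isOneW w = true) : prodW um w = 1 := by
  refine Units.ext ?_
  rw [val_prodW, mW_of_isOneW h, toM_oneN, Units.val_one]

theorem um_inv {c d : ℕ} (h : invL c = d) : um d = (um c)⁻¹ := by
  subst h
  exact Units.ext rfl

theorem um_1 : um 1 = (um 0)⁻¹ := um_inv rfl
theorem um_3 : um 3 = (um 2)⁻¹ := um_inv rfl
theorem um_5 : um 5 = (um 4)⁻¹ := um_inv rfl
theorem um_7 : um 7 = (um 6)⁻¹ := um_inv rfl
theorem um_11 : um 11 = (um 10)⁻¹ := um_inv rfl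

end CfsgLib.LyRep
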