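import Cfsg.Agent.Lib.LyRep.Letters

/-!
Kernel checks of relations.
-/

set_option autoImplicit false
set_option linter.style.longLine false
set_option Elab.async false

namespace CfsgLib.LyRep

theorem relChk1 : isOneW [0, 0, 0, 0, 0, 0, 0, 0] = true := by decide +kernel

theorem relChk2 : isOneW [2, 2, 2, 2, 2] = true := by decide +kernel

theorem relChk3 : isOneW [0, 2, 0, 2, 0, 2, 0, 2] = true := by decide +kernel

theorem relChk4 : isOneW [1, 1, 3, 0, 0, 2] = true := by decide +kernel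

theorem relChk5 : isOneW [1, 3, 0, 2, 1, 3, 0, 2, 1, 3, 0, 2] = true := by decide +kernel

theorem relChk11 : isOneW [4, 4, 4, 4, 4] = true := by decide +kernel

theorem relChk12 : isOneW [5, 1, 5, 0, 4, 1, 4, 0, 5, 1, 5, 0, 4, 1, 4, 0, 5, 1, 5, 0, 4, 1, 4, 0, 5, 1, 5, 0, 4, 1, 4, 0, 5, 1, 5, 0, 4, 1, 4, 0] = true := by decide +kernel

theorem relChk13 : isOneW [5, 1, 5, 0, 5, 1, 4, 0, 4, 1, 5, 0, 4, 1, 4, 0] = true := by decide +kernel

theorem relChk14 : isOneW [1, 5, 5, 0, 5, 1, 4, 0, 4, 1, 4, 0, 5, 1, 5, 0, 4, 1, 4, 0] = true := by decide +kernel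

end CfsgLib.LyRep
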